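import Groth.Agent.Ega4late.H533.DescAlg
import Groth.Prelude.Def_CAlg

/-!
# `DepthLeOne` and `LocCoh.depth`
-/

set_option autoImplicit false

universe u

namespace Groth.Agent.Ega4late.H533.DepthIff

open IsLocalRing Groth.Agent.Ega4late.H533.DescAlg

theorem depth_le_one_of_depthLeOne {R : Type u} [CommRing R] [IsLocalRing R] (h : DepthLeOne R) :
    LocCoh.depth R R ≤ 1 := by
  have hne : (maximalIdeal R) • (⊤ : Submodule R R) ≠ ⊤ := by
    rw [smul_eq_mul, Ideal.mul_top]
    exact (inferInstance : (maximalIdeal R).IsPrime).ne_top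
  rw [LocCoh.depth, LocCoh.idealDepth, if_neg hne]
  refine iSup_le fun rs => iSup_le fun hrs => ?_
  obtain ⟨hreg, hmem⟩ := hrs
  match rs, hreg, hmem with
  | [], _, _ => simp
  | [_], _, _ => simp
  | x :: y :: rs, hreg, hmem =>
    exfalso
    rw [RingTheory.Sequence.isWeaklyRegular_cons_iff] at hreg
    obtain ⟨hx, hreg⟩ := hreg
    rw [RingTheory.Sequence.isWeaklyRegular_cons_iff] at hreg
    obtain ⟨hy, -⟩ := hreg
    obtain ⟨z, hz1, hz2⟩ := h x (hmem x (by simp)) y (hmem y (by simp)) (by
      rw [mem_nonZeroDivisors_iff_right]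
      intro a ha
      apply hx
      simp only [smul_eq_mul, mul_zero]
      rw [mul_comm]; exact ha)
    apply hz2
    have key : ∀ a : R, a ∈ Ideal.span {x} ↔ (Submodule.Quotient.mk a : QuotSMulTop x R) = 0 := by
      intro a
      rw [Submodule.Quotient.mk_eq_zero, Ideal.mem_span_singleton']
      constructor
      · rintro ⟨c, rfl⟩
        rw [mul_comm]
        exact Submodule.smul_mem_pointwise_smul c x ⊤ trivial
      · intro ha
        obtain ⟨c, -, hc⟩ := ha
        exact ⟨c, by rw [← hc]; simp [mul_comm]⟩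
    rw [key] at hz1 ⊢
    apply hy
    simp only [smul_zero]
    rw [← hz1]
    rfl

end Groth.Agent.Ega4late.H533.DepthIff
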